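import Cfsg.Agent.H209.PiSpor.ToolsV
import Cfsg.Agent.H573.Spor.ONSeven
import Cfsg.Agent.SporRec.ONAssembly
import Cfsg.Agent.KFacts.ON.Aut
import Cfsg.Agent.KFacts.ON.OneClass
import Cfsg.Agent.CpAutON.Seven
import Cfsg.Agent.R04.ONThree

/-!
# S4324, sporadic rows: the O'Nan group, `s = 7` (helper640)

Every automorphism of the situation which fixes an involution is trivial (`kill`): it acts trivially on the quasisimple
group `J = C(f)'`, so is induced by an element of `Z(J) = ⟨v⟩`, and the same holds for its image under the automorphism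
`sw` which interchanges `a` and `f`.
Elements of order `11`, `31` commute with no element of the class `7B` (`no_comm`): its fixed space in the 45-dimensional
representation over `𝔽₇` has dimension at most `7`.
-/

set_option autoImplicit false
set_option maxRecDepth 100000

namespace Cfsg.Agent.H640.PiSpor

open Subgroup Cfsg Cfsg.Agent.H216.Pi Cfsg.Agent.H209.PiSpor
open Cfsg.Spor (ON)
open Cfsg.Agent.SporadicB.ON45Word (on)

/-! ### Linear algebra -/

section Lin

variable {K : Type*} [Field K] {V : Type*} [AddCommGroup V] [Module K V]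

/-- if `Z` commutes with the unipotent `Y` and is trivial on its fixed space, then `Z = 1` (`Z ^ p = 1`, `p` prime to the
characteristic) -/
theorem eq_of_fixed {Y Z : V →ₗ[K] V} (hYZ : ∀ v, Y (Z v) = Z (Y v)) {p : ℕ} (hp : (p : K) ≠ 0) (hZ : ∀ v, (Z ^ p) v = v)
    (hfix : ∀ v, Y v = v → Z v = v) : ∀ (n : ℕ) (v : V), ((Y - 1) ^ n) v = 0 → Z v = v := by
  intro n
  induction n with
  | zero =>
    intro v hv
    have h1 : v = 0 := by simpa using hv
    rw [h1, map_zero]
  | succ n ih =>
    intro v hv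
    -- `Z` fixes `(Y - 1) v`
    have h1 : Z ((Y - 1) v) = (Y - 1) v := ih _ (by rw [← Module.End.mul_apply, ← pow_succ]; exact hv)
    -- `Z v - v` is fixed by `Y`
    set d := Z v - v with hd
    have h2 : Y d = d := by
      have h3 : Z (Y v) - Z v = Y v - v := by
        have := h1
        rw [LinearMap.sub_apply, Module.End.one_apply, map_sub] at this
        exact this
      rw [sub_eq_iff_eq_add] at h3
      rw [hd, map_sub, hYZ, h3]
      abel
    have h4 : Z d = d := hfix d h2
    have h5 : ∀ k : ℕ, (Z ^ k) v = v + (k : K) • d := by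
      intro k
      induction k with
      | zero => simp
      | succ k ihk =>
        have e : (Z ^ (k + 1)) v = Z ((Z ^ k) v) := by rw [pow_succ', Module.End.mul_apply]
        have e2 : Z v = v + d := by rw [hd]; abel
        rw [e, ihk, map_add, map_smul, h4, e2, Nat.cast_succ, add_smul, one_smul]
        abel
    have h6 := h5 p
    rw [hZ, left_eq_add, smul_eq_zero] at h6
    have h7 := h6.resolve_left hp
    rw [hd, sub_eq_zero] at h7
    exact h7

/-- the action of `Z` (`Z ^ p = 1`) on the fixed space of `Y` is trivial if this space is small -/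
theorem fixed_of_small [Finite K] [Module.Finite K V] {Y Z : V →ₗ[K] V} (hYZ : ∀ v, Y (Z v) = Z (Y v)) {p : ℕ} (hp : p.Prime)
    (hZ : ∀ v, (Z ^ p) v = v) {m : ℕ} (hd : Module.finrank K (LinearMap.ker (Y - 1)) ≤ m)
    (hm : ∀ a b : ℕ, a ≤ m → b ≤ m → Nat.card K ^ a ≡ Nat.card K ^ b [MOD p] → a = b) :
    ∀ v, Y v = v → Z v = v := by
  classical
  have : Fact p.Prime := ⟨hp⟩
  set S := LinearMap.ker (Y - 1) with hS
  set T := LinearMap.ker (Z - 1) with hT
  have hmS : ∀ v, v ∈ S ↔ Y v = v := fun v => by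
    rw [hS, LinearMap.mem_ker, LinearMap.sub_apply, Module.End.one_apply, sub_eq_zero]
  have hmT : ∀ v, v ∈ T ↔ Z v = v := fun v => by
    rw [hT, LinearMap.mem_ker, LinearMap.sub_apply, Module.End.one_apply, sub_eq_zero]
  have hfV : Finite V := Module.finite_of_finite K
  let _ : Fintype S := Fintype.ofFinite S
  let f : Function.End S := fun v => ⟨Z v, by rw [hmS, hYZ, (hmS _).1 v.2]⟩
  have hf : ∀ k : ℕ, ∀ v : S, (((f ^ k) v : S) : V) = (Z ^ k) v := by
    intro k
    induction k with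
    | zero => intro v; rfl
    | succ k ih =>
      intro v
      rw [pow_succ', pow_succ', Module.End.mul_apply, ← ih]
      rfl
  have hfp : f ^ p ^ 1 = 1 := by
    rw [pow_one]
    funext v
    apply Subtype.ext
    rw [hf, hZ]
    rfl
  have h1 := Equiv.Perm.card_fixedPoints_modEq (f := f) hfp
  rw [← Nat.card_eq_fintype_card, ← Nat.card_eq_fintype_card] at h1
  have h2 : Nat.card (Function.fixedPoints f) = Nat.card (S ⊓ T : Submodule K V) := by
    refine Nat.card_congr ⟨fun v => ⟨v.1.1, v.1.2, ?_⟩, fun v => ⟨⟨v.1, v.2.1⟩, ?_⟩, fun _ => rfl, fun _ => rfl⟩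
    · have h3 : f v.1 = v.1 := v.2
      exact (hmT _).2 (congrArg Subtype.val h3)
    · show f _ = _
      apply Subtype.ext
      exact (hmT _).1 v.2.2
  rw [h2, Module.natCard_eq_pow_finrank (K := K), Module.natCard_eq_pow_finrank (K := K) (V := (S ⊓ T : Submodule K V))] at h1
  have hle : Module.finrank K (S ⊓ T : Submodule K V) ≤ Module.finrank K S := Submodule.finrank_mono inf_le_left
  have h3 := hm _ _ hd (hle.trans hd) h1
  have h4 : S ⊓ T = S := Submodule.eq_of_le_of_finrank_eq inf_le_left h3.symm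
  intro v hv
  have h5 : v ∈ S ⊓ T := by rw [h4]; exact (hmS v).2 hv
  exact (hmT v).1 h5.2

theorem mod_11 : ∀ a b : ℕ, a ≤ 7 → b ≤ 7 → 7 ^ a ≡ 7 ^ b [MOD 11] → a = b := by
  intro a b ha hb hab
  interval_cases a <;> interval_cases b <;> first | rfl | (exact absurd hab (by decide))

theorem mod_31 : ∀ a b : ℕ, a ≤ 7 → b ≤ 7 → 7 ^ a ≡ 7 ^ b [MOD 31] → a = b := by
  intro a b ha hb hab
  interval_cases a <;> interval_cases b <;> first | rfl | (exact absurd hab (by decide))

/-- the linear algebra for `p = 11, 31` -/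
theorem lin_core {n : Type} [Fintype n] [DecidableEq n] {Y Z : Matrix n n (ZMod 7)} (hYZ : Z * Y = Y * Z) (hY : Y ^ 7 = 1)
    {p : ℕ} (hp : p = 11 ∨ p = 31) (hZ : Z ^ p = 1)
    (hd : Module.finrank (ZMod 7) (LinearMap.ker (Matrix.mulVecLin Y - 1)) ≤ 7) : Z = 1 := by
  have hpp : p.Prime := by rcases hp with rfl | rfl <;> norm_num
  have hpow : ∀ (A : Matrix n n (ZMod 7)) (k : ℕ) (v : n → ZMod 7), (Matrix.mulVecLin A ^ k) v = (A ^ k).mulVec v := by
    intro A k
    induction k with
    | zero => intro v; rw [pow_zero, pow_zero, Matrix.one_mulVec]; rfl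
    | succ k ih =>
      intro v
      rw [pow_succ', pow_succ', Module.End.mul_apply, ih, ← Matrix.mulVec_mulVec]
      rfl
  have hYZ' : ∀ v, Matrix.mulVecLin Y (Matrix.mulVecLin Z v) = Matrix.mulVecLin Z (Matrix.mulVecLin Y v) := by
    intro v
    rw [Matrix.mulVecLin_apply, Matrix.mulVecLin_apply, Matrix.mulVecLin_apply, Matrix.mulVecLin_apply,
      Matrix.mulVec_mulVec, Matrix.mulVec_mulVec, hYZ]
  have hZ' : ∀ v, (Matrix.mulVecLin Z ^ p) v = v := by
    intro v
    rw [hpow, hZ, Matrix.one_mulVec]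
  have hY1 : Matrix.mulVecLin Y ^ 7 = 1 := by
    refine LinearMap.ext fun v => ?_
    rw [hpow, hY, Matrix.one_mulVec, Module.End.one_apply]
  have hY0 : (Matrix.mulVecLin Y - 1) ^ 7 = 0 := by
    have h1 : (Polynomial.X - 1 : Polynomial (ZMod 7)) ^ 7 = Polynomial.X ^ 7 - 1 := by
      have := sub_pow_char (R := Polynomial (ZMod 7)) (p := 7) Polynomial.X 1
      rwa [one_pow] at this
    have h2 := congrArg (Polynomial.aeval (Matrix.mulVecLin Y)) h1
    rw [map_pow, map_sub, map_sub, map_pow, map_one, Polynomial.aeval_X, hY1, sub_self] at h2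
    exact h2
  have hfix := fixed_of_small (K := ZMod 7) hYZ' hpp hZ' (m := 7) hd (by
    intro a b ha hb hab
    rw [Nat.card_zmod] at hab
    rcases hp with rfl | rfl
    · exact mod_11 a b ha hb hab
    · exact mod_31 a b ha hb hab)
  have h8 : ∀ v, Matrix.mulVecLin Z v = v := by
    intro v
    refine eq_of_fixed hYZ' (p := p) ?_ hZ' hfix 7 v (by rw [hY0]; rfl)
    rcases hp with rfl | rfl <;> decide
  refine Matrix.mulVec_injective ?_
  funext v
  rw [Matrix.one_mulVec]
  exact h8 v

end Lin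

/-! ### The centralizer of the class `7B` -/

section Cent

open Cfsg.Agent.SporRec
open Cfsg.Agent.SporRec.PackSeven hiding rho
open Cfsg.Agent.SporRec.PackSevenOrb Cfsg.Agent.SporRec.ON45Mats
  Cfsg.Agent.SporRec.ONLower Cfsg.Spor.ON
open Cfsg.Agent.SporadicB.ON45Core (M45 center_cases)
open Cfsg.Agent.H573.Spor.ONSeven

/-- the element `y` of the class `7B` -/
def y7 : ON := wG wY

theorem orderOf_y7 : orderOf y7 = 7 := orderOf_wG seven_Y one_Y

theorem cube_center {z : SL45} (hz : z ∈ Subgroup.center SL45) : z ^ 3 = 1 := by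
  apply Subtype.ext
  have e : ((z ^ 3 : SL45) : M45) = (z : M45) ^ 3 := Matrix.SpecialLinearGroup.coe_pow _ _
  refine e.trans ?_
  rcases center_cases hz with hc | hc | hc <;> rw [hc, smul_pow, one_pow]
  · simp
  · rw [cube_two, one_smul]; rfl
  · rw [cube_four, one_smul]; rfl

/-- vectors fixed by `Y` are determined by seven coordinates -/
theorem fixed_eq_zero {v : Fin 45 → ZMod 7} (hv : ((wS wY : SL45) : M45).mulVec v = v)
    (h0 : ∀ j : Fin 45, 38 ≤ (j : ℕ) → v j = 0) : v = 0 := by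
  rw [coe_wS] at hv
  have h4 : (mP * toMat 45 (ev wY)).mulVec v = mP.mulVec v := by
    rw [← Matrix.mulVec_mulVec, hv]
  ext i
  have h5 := congrFun h4 i
  rw [Matrix.mulVec, Matrix.mulVec, dotProduct, dotProduct] at h5
  have h6 : ∀ j, (mP * toMat 45 (ev wY)) i j * v j = mP i j * v j + if i = j then v j else 0 := by
    intro j
    by_cases hj : 38 ≤ (j : ℕ)
    · rw [h0 j hj]; simp
    · rw [rem_P i j (by simpa using hj)]
      split_ifs <;> ring
  simp_rw [h6] at h5
  rw [Finset.sum_add_distrib] at h5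
  have h7 : ∑ j, (if i = j then v j else 0) = 0 := add_eq_left.1 h5
  rw [Finset.sum_ite_eq] at h7
  simpa using h7

theorem finrank_fixed : Module.finrank (ZMod 7) (LinearMap.ker (Matrix.mulVecLin ((wS wY : SL45) : M45) - 1)) ≤ 7 := by
  set S := LinearMap.ker (Matrix.mulVecLin ((wS wY : SL45) : M45) - 1) with hS
  let s : Finset (Fin 45) := Finset.univ.filter (fun k : Fin 45 => 38 ≤ (k : ℕ))
  let L : S →ₗ[ZMod 7] (s → ZMod 7) :=
    (LinearMap.funLeft (ZMod 7) (ZMod 7) (fun x : s => (x : Fin 45))).comp S.subtype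
  have hL : Function.Injective L := by
    rw [← LinearMap.ker_eq_bot, LinearMap.ker_eq_bot']
    intro v hv
    apply Subtype.ext
    refine fixed_eq_zero ?_ ?_
    · have h1 := LinearMap.mem_ker.1 v.2
      rw [LinearMap.sub_apply, Module.End.one_apply, sub_eq_zero] at h1
      exact h1
    · intro j hj
      exact congrFun hv ⟨j, by simp [s, hj]⟩
  have h1 := LinearMap.finrank_le_finrank_of_injective hL
  rw [Module.finrank_fintype_fun_eq_card, Fintype.card_coe] at h1
  exact h1.trans (by decide)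


/-- the group theory -/
theorem grp_core {G : Type*} [Group G] {C Y : G} (hY7 : Y ^ 7 = 1) (hzc : ∀ u, Y⁻¹ * (C * Y * C⁻¹) * u = u * (Y⁻¹ * (C * Y * C⁻¹)))
    (hz3 : (Y⁻¹ * (C * Y * C⁻¹)) ^ 3 = 1) : C ^ 3 * Y = Y * C ^ 3 := by
  set z : G := Y⁻¹ * (C * Y * C⁻¹) with hz
  have h3 : C * Y * C⁻¹ = Y ^ 1 * z := by rw [hz, pow_one]; group
  have h7 : z ^ 7 = 1 := aux_seven hzc h3 hY7 hY7
  have hz1 : z = 1 := by
    have : z ^ 7 = z ^ 3 * z ^ 3 * z := by group
    rw [h7, hz3] at this
    simpa using this.symm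
  have hCY : C * Y = Y * C := by
    have e : C * Y = (C * Y * C⁻¹) * C := by group
    rw [e, h3, hz1, mul_one, pow_one]
  exact ((show Commute C Y from hCY).pow_left 3).eq

theorem pr_comm {C Y : SL45} (h1 : pr (C * Y) = pr (Y * C)) : Y⁻¹ * (C * Y * C⁻¹) ∈ Subgroup.center SL45 := by
  rw [← pr_eq_one_iff]
  have e : Y⁻¹ * (C * Y * C⁻¹) = Y⁻¹ * (C * Y) * C⁻¹ := by group
  rw [e, map_mul, map_mul, h1, ← map_mul, ← map_mul]
  have e2 : Y⁻¹ * (Y * C) * C⁻¹ = 1 := by group
  rw [e2, map_one]

theorem coe_core {Z Y : SL45} (hZY : Z * Y = Y * Z) (hY7 : Y ^ 7 = 1) {p : ℕ} (hp : p = 11 ∨ p = 31) (hZp : Z ^ p = 1)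
    (hd : Module.finrank (ZMod 7) (LinearMap.ker (Matrix.mulVecLin (Y : M45) - 1)) ≤ 7) : Z = 1 := by
  have h1 : (Z : M45) * (Y : M45) = (Y : M45) * (Z : M45) := by
    rw [← Matrix.SpecialLinearGroup.coe_mul, ← Matrix.SpecialLinearGroup.coe_mul, hZY]
  have h2 : (Y : M45) ^ 7 = 1 := by
    rw [← Matrix.SpecialLinearGroup.coe_pow, hY7, Matrix.SpecialLinearGroup.coe_one]
  have h3 : (Z : M45) ^ p = 1 := by
    rw [← Matrix.SpecialLinearGroup.coe_pow, hZp, Matrix.SpecialLinearGroup.coe_one]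
  have h4 : (Z : M45) = 1 := lin_core h1 h2 hp h3 hd
  apply Subtype.ext
  rw [h4, Matrix.SpecialLinearGroup.coe_one]

/-- no element of order `11` or `31` commutes with `y` -/
theorem no_comm {p : ℕ} (hp : p = 11 ∨ p = 31) (h : ON) (ho : orderOf h = p) : h * y7 ≠ y7 * h := by
  intro hc
  obtain ⟨C, hC'⟩ : ∃ C : SL45, pr C = rho h := QuotientGroup.mk'_surjective (Subgroup.center SL45) (rho h)
  have hY7 : wS wY ^ 7 = 1 := pow_seven seven_Y
  have h1 : pr (C * wS wY) = pr (wS wY * C) := by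
    have := congrArg rho hc
    rw [map_mul, map_mul, y7, rho_wG, ← hC', ← map_mul, ← map_mul] at this
    exact this
  have h2 := pr_comm h1
  have hZY := grp_core hY7 (fun u => (Subgroup.mem_center_iff.1 h2 u).symm) (cube_center h2)
  have hZp : (C ^ 3) ^ p = 1 := by
    have h4 : pr (C ^ p) = 1 := by
      rw [map_pow, hC', ← map_pow, ← ho, pow_orderOf_eq_one, map_one]
    rw [pr_eq_one_iff] at h4
    rw [← pow_mul, mul_comm, pow_mul]
    exact cube_center h4
  have hZ1 := coe_core hZY hY7 hp hZp finrank_fixed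
  have h5 : rho (h ^ 3) = 1 := by
    rw [map_pow, ← hC', ← map_pow, hZ1, map_one]
  have h6 : h ^ 3 = 1 := rho_inj (by rw [h5, map_one])
  have h7 := orderOf_dvd_of_pow_eq_one h6
  rw [ho] at h7
  have h8 := Nat.le_of_dvd (by norm_num) h7
  rcases hp with rfl | rfl <;> omega

end Cent

/-! ### The kill -/

section Kill

open Cfsg.Agent.KFacts.ON.Words (hs v vv)
open Cfsg.Agent.KFacts.ON.Struct
open Cfsg.Agent.KFacts.ON.Qs (mem_center v4 zv_cases a_not_zv qs)
open Cfsg.Agent.KFacts.ON.Aut (autJ der)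
open Cfsg.Agent.ONType.TupleClass (sw sw_a sw_f sw_sw)
open Cfsg.Agent.ONType.TupK (K0)
open Cfsg.Agent.CpAutON.Seven (center_bot autInner)

theorem card_on : Nat.card ON = 460815505920 := Cfsg.Agent.KFacts.ON.OneClass.card_ON

theorem finite_on : Finite ON := Cfsg.Agent.KFacts.ON.OneClass.finite_ON

theorem card_cent : Nat.card (centralizer ({on .f} : Set ON)) = 161280 := Cfsg.Agent.KFacts.ON.Cent.card_cent

theorem index_cent : (centralizer ({on .f} : Set ON)).index = 2857239 := by
  have h1 := (centralizer ({on .f} : Set ON)).card_mul_index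
  rw [card_cent, card_on] at h1
  omega

theorem map_J {x : MulAut ON} (hx : x (on .f) = on .f) : ∀ m ∈ J, x m ∈ J := by
  intro m hm
  have hder : ⁅centralizer ({on .f} : Set ON), centralizer ({on .f} : Set ON)⁆ ≤ J := der
  have hJC : J ≤ centralizer ({on .f} : Set ON) := fun k hk => mem_centralizer_singleton_iff.2 (mem_K0.1 (J_le hk))
  have h1 : m ∈ ⁅centralizer ({on .f} : Set ON), centralizer ({on .f} : Set ON)⁆ := by
    rw [← perf] at hm
    exact commutator_mono hJC hJC hm
  have h2 : (centralizer ({on .f} : Set ON)).map x.toMonoidHom ≤ centralizer ({on .f} : Set ON) := by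
    rintro _ ⟨k, hk, rfl⟩
    rw [SetLike.mem_coe, mem_centralizer_singleton_iff] at hk
    rw [mem_centralizer_singleton_iff]
    have h3 := congrArg x hk
    rw [map_mul, map_mul, hx] at h3
    exact h3
  have h4 : x m ∈ (⁅centralizer ({on .f} : Set ON), centralizer ({on .f} : Set ON)⁆).map x.toMonoidHom := ⟨m, h1, rfl⟩
  rw [map_commutator] at h4
  exact hder (commutator_mono h2 h2 h4)

theorem J_ne_top : J ≠ ⊤ := by
  intro h
  have h1 := card_J
  rw [h, card_top, card_on] at h1
  norm_num at h1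

theorem seven_dvd : 7 ∣ Nat.card (J ⧸ center J) := by
  have := finite_on
  have hv : orderOf v ∣ 4 := orderOf_dvd_of_pow_eq_one v4
  have hc : Nat.card (center J) ∣ 4 := by
    have h1 : (center J).map J.subtype ≤ zpowers v := by
      rintro _ ⟨x, hx, rfl⟩
      exact mem_center.1 hx
    have h2 := Subgroup.card_dvd_of_le h1
    rw [Subgroup.card_map_of_injective J.subtype_injective, Nat.card_zpowers] at h2
    exact h2.trans hv
  have h1 : Nat.card (J ⧸ center J) * Nat.card (center J) = 80640 := by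
    rw [← Subgroup.card_eq_card_quotient_mul_card_subgroup, card_J]
  have h7 : Nat.Coprime 7 (Nat.card (center J)) := Nat.Coprime.coprime_dvd_right hc (by norm_num)
  refine h7.dvd_of_dvd_mul_right ?_
  rw [h1]
  norm_num

theorem kill_aux {x : MulAut ON} (hPC : PC 7 x) (hx : x (on .f) = on .f) : ∃ u ∈ zpowers v, x = MulAut.conj u := by
  have := finite_on
  exact autJ fun m hm => hPC.eq_of_quasisimple (by norm_num) J_ne_top (map_J hx) qs seven_dvd hm

/-- the automorphism interchanging `a` and `f` -/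
noncomputable def swE : ON ≃* ON where
  toFun := sw hs
  invFun := sw hs
  left_inv := sw_sw hs
  right_inv := sw_sw hs
  map_mul' := map_mul _

theorem swE_f : swE (on .f) = on .a := sw_f hs
theorem swE_symm_f : swE.symm (on .f) = on .a := sw_f hs
theorem swE_a : swE (on .a) = on .f := sw_a hs

/-- **an automorphism with `PC` fixing the involution `f` is trivial** -/
theorem kill {x : MulAut ON} (hPC : PC 7 x) (hx : x (on .f) = on .f) : x = 1 := by
  have := finite_on
  obtain ⟨u, hu, hxu⟩ := kill_aux hPC hx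
  have hxa : x (on .a) = on .a := by
    rw [hxu, MulAut.conj_apply, ← Cfsg.Agent.KFacts.ON.Qs.zv_comm hu aJ, mul_inv_cancel_right]
  have h1 : H459.Rad.tr swE x (on .f) = on .f := by
    rw [H459.Rad.tr_apply, swE_symm_f, hxa, swE_a]
  obtain ⟨u', hu', hxu'⟩ := kill_aux (hPC.tr swE) h1
  rw [hxu, tr_conj] at hxu'
  have h2 : swE u = u' := conj_inj center_bot hxu'
  rw [← h2] at hu'
  have h3 : swE (on .f) ∉ zpowers v := by rw [swE_f]; exact a_not_zv
  rcases zv_cases hu with h | h | h | h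
  · rw [hxu, h, map_one]
  · exfalso
    apply h3
    rw [h] at hu'
    rw [← vv, map_mul]
    exact mul_mem hu' hu'
  · exfalso
    apply h3
    rw [← h]
    exact hu'
  · exfalso
    apply h3
    have h4 : on .f = u * u := by
      rw [h, ← vv]
      have e : v * v * v * (v * v * v) = v ^ 4 * (v * v) := by
        simp only [pow_succ, pow_zero, one_mul, mul_assoc]
      rw [e, v4, one_mul]
    rw [h4, map_mul]
    exact mul_mem hu' hu'

theorem ni_of_fix {p : ℕ} (hp : p.Prime)
    (h : ∀ g : ON, orderOf g = p → ∃ a : ON, (a * g * a⁻¹) * on .f = on .f * (a * g * a⁻¹)) : NI 7 p ON := by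
  have := finite_on
  intro g hg hPC _
  obtain ⟨a, ha⟩ := h g hg
  have h2 := kill (pc_conj_elt a hPC) (by rw [MulAut.conj_apply, ha, mul_inv_cancel_right])
  have h3 : a * g * a⁻¹ = 1 := conj_inj center_bot (by rw [h2, map_one])
  have h4 := orderOf_conj' a g
  rw [h3, orderOf_one, hg] at h4
  exact hp.one_lt.ne h4

theorem ne_one_of_order {g : ON} {p : ℕ} (hp : 1 < p) (h : orderOf g = p) : g ≠ 1 := by
  rintro rfl
  rw [orderOf_one] at h
  omega

theorem ni_two : NI 7 2 ON := by
  refine ni_of_fix Nat.prime_two fun g hg => ?_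
  have h1 : g * g = 1 := by rw [← pow_two, ← hg, pow_orderOf_eq_one]
  obtain ⟨a, ha⟩ := isConj_iff.1 (Cfsg.Agent.KFacts.ON.OneClass.one_class h1 (ne_one_of_order one_lt_two hg))
  exact ⟨a, by rw [ha]⟩

theorem ni_three : NI 7 3 ON := by
  refine ni_of_fix Nat.prime_three fun g hg => ?_
  obtain ⟨s, hs2, hsg⟩ := Cfsg.Agent.R04.ONThree.exists_inv Cfsg.Agent.KFacts.ON.Cent.hON g hg
  have h1 : s * s = 1 := by rw [← pow_two, ← hs2, pow_orderOf_eq_one]
  obtain ⟨a, ha⟩ := isConj_iff.1 (Cfsg.Agent.KFacts.ON.OneClass.one_class h1 (ne_one_of_order one_lt_two hs2))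
  refine ⟨a, ?_⟩
  rw [← ha]
  calc a * g * a⁻¹ * (a * s * a⁻¹) = a * (g * s) * a⁻¹ := by group
    _ = a * (s * g) * a⁻¹ := by rw [hsg]
    _ = a * s * a⁻¹ * (a * g * a⁻¹) := by group

theorem ni_five : NI 7 5 ON := by
  have := finite_on
  refine ni_of_fix Nat.prime_five fun g hg => ?_
  obtain ⟨a, ha⟩ := exists_conj_mem (M := centralizer ({on .f} : Set ON)) Nat.prime_five
    (by rw [index_cent]; norm_num) hg
  exact ⟨a, mem_centralizer_singleton_iff.1 ha⟩

theorem ni_19 : NI 7 19 ON := by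
  have := finite_on
  obtain ⟨N, hN, hi, ⟨e⟩⟩ := Cfsg.Agent.SporRec.ONAssembly.exists_normal Cfsg.Agent.SporRec.ONLower.ab_ne_one
  have hsP : IsSimpleGroup (Matrix.ProjectiveSpecialLinearGroup (Fin 3) (ZMod 7)) :=
    Cfsg.Agent.SporRec.ONL37.simple_PSL37
  have hcH := Cfsg.Agent.SporRec.ONAssembly.card_H Cfsg.Agent.SporRec.ONLower.ab_ne_one
  have hnt : Nontrivial N := e.toEquiv.nontrivial
  have hsN : IsSimpleGroup N := IsSimpleGroup.isSimpleGroup_of_surjective e.symm.toMonoidHom e.symm.surjective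
  have hcN : Nat.card N = 1876896 := by
    have h1 := N.card_mul_index
    rw [hi, hcH] at h1
    omega
  set M : Subgroup ON := N.map (Cfsg.Agent.SporRec.ONAssembly.H).subtype with hM
  have hcM : Nat.card M = 1876896 := by
    rw [hM, Subgroup.card_map_of_injective (Cfsg.Agent.SporRec.ONAssembly.H).subtype_injective, hcN]
  have hiM : M.index = 245520 := by
    have h1 := M.card_mul_index
    rw [hcM, card_on] at h1
    omega
  have hsM : IsSimpleGroup M := by
    let e' := N.equivMapOfInjective (Cfsg.Agent.SporRec.ONAssembly.H).subtype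
      (Cfsg.Agent.SporRec.ONAssembly.H).subtype_injective
    have : Nontrivial M := e'.symm.toEquiv.nontrivial
    exact IsSimpleGroup.isSimpleGroup_of_surjective e'.toMonoidHom e'.surjective
  refine NI.of_index_simple (M := M) (by norm_num) (by norm_num) (by norm_num) ?_ ?_ hsM ?_
  · intro h
    rw [h, index_top] at hiM
    omega
  · rw [hiM]; norm_num
  · rw [hcM]; norm_num

theorem ni_V {p : ℕ} (hp : p = 11 ∨ p = 31) : NI 7 p ON := by
  have := finite_on
  have hpp : p.Prime := by rcases hp with rfl | rfl <;> norm_num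
  refine NI.of_V (by norm_num) hpp center_bot orderOf_y7 (fun h ho => no_comm hp h ho) ?_
  intro b hb hd
  rw [card_on] at hd
  have hb1 : b = 1 := by
    by_contra hne
    have h2 : p ^ 2 ∣ 460815505920 := (pow_dvd_pow p (by omega)).trans hd
    rcases hp with rfl | rfl <;> norm_num at h2
  subst hb1
  rcases hp with rfl | rfl <;> norm_num

theorem prime_cases {p : ℕ} (hp : p.Prime) (hd : p ∣ 460815505920) :
    p = 2 ∨ p = 3 ∨ p = 5 ∨ p = 7 ∨ p = 11 ∨ p = 19 ∨ p = 31 := by
  have h1 : (460815505920 : ℕ) = 2 ^ 9 * 3 ^ 4 * 5 * 7 ^ 3 * 11 * 19 * 31 := by norm_num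
  rw [h1] at hd
  simp only [hp.dvd_mul] at hd
  rcases hd with (((((h | h) | h) | h) | h) | h) | h
  · exact Or.inl ((Nat.prime_dvd_prime_iff_eq hp (by norm_num)).1 (hp.dvd_of_dvd_pow h))
  · exact Or.inr (Or.inl ((Nat.prime_dvd_prime_iff_eq hp (by norm_num)).1 (hp.dvd_of_dvd_pow h)))
  · exact Or.inr (Or.inr (Or.inl ((Nat.prime_dvd_prime_iff_eq hp (by norm_num)).1 h)))
  · exact Or.inr (Or.inr (Or.inr (Or.inl ((Nat.prime_dvd_prime_iff_eq hp (by norm_num)).1 (hp.dvd_of_dvd_pow h)))))
  · exact Or.inr (Or.inr (Or.inr (Or.inr (Or.inl ((Nat.prime_dvd_prime_iff_eq hp (by norm_num)).1 h)))))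
  · exact Or.inr (Or.inr (Or.inr (Or.inr (Or.inr (Or.inl ((Nat.prime_dvd_prime_iff_eq hp (by norm_num)).1 h))))))
  · exact Or.inr (Or.inr (Or.inr (Or.inr (Or.inr (Or.inr ((Nat.prime_dvd_prime_iff_eq hp (by norm_num)).1 h))))))

theorem ni_on {p : ℕ} (hp : p.Prime) (h7 : p ≠ 7) : NI 7 p ON := by
  have := finite_on
  by_cases hd : p ∣ Nat.card ON
  · rw [card_on] at hd
    rcases prime_cases hp hd with rfl | rfl | rfl | rfl | rfl | rfl | rfl
    · exact ni_two
    · exact ni_three
    · exact ni_five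
    · exact (h7 rfl).elim
    · exact ni_V (Or.inl rfl)
    · exact ni_19
    · exact ni_V (Or.inr rfl)
  · intro g hg _ _
    exact hd (hg ▸ orderOf_dvd_natCard g)

theorem no_on : NO 7 ON := by
  have := finite_on
  intro x hx _ hPC _
  have hne : on .f ≠ 1 := f_ne_one
  have h1 : IsConj (x (on .f)) (on .f) := by
    refine Cfsg.Agent.KFacts.ON.OneClass.one_class ?_ ?_
    · rw [← map_mul, ff, map_one]
    · intro h
      exact hne (x.injective (h.trans (map_one x).symm))
  obtain ⟨a, ha⟩ := exists_cj_fix Nat.prime_two hx h1.symm (by rw [index_cent]; norm_num)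
  have h2 := kill (hPC.conj a) ha
  have h3 := orderOf_cj x a
  rw [h2, orderOf_one, hx] at h3
  omega

theorem ncs_on : NCs 7 ON := by
  have := finite_on
  refine ncs_of center_bot (fun p hp h7 => ni_on hp h7) ?_ no_on
  intro x hp hx
  by_contra h2
  obtain ⟨g, hg⟩ := autInner hp h2 x rfl
  exact hx ⟨g, hg.symm⟩

end Kill

universe u

/-- **the O'Nan group, `s = 7`** -/
theorem ncs_ON_7 {K : Type u} [Group K] [Finite K] (h : Spor.IsoON K) : NCs 7 K := by
  obtain ⟨e⟩ := h
  have := finite_on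
  exact ncs_congr e.symm ncs_on

end Cfsg.Agent.H640.PiSpor
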